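import Cfsg.Agent.Lib.EqualOrder.Local
import Cfsg.Agent.Lib.Walter4.Rank4
import Cfsg.Agent.Lib.Walter8.Main
import Cfsg.Agent.Lib.AllAbelian.Section
import Cfsg.Agent.Lib.AllAbelian.Tools
import Cfsg.Agent.Lib.GoldGroups.Naming
import Cfsg.Agent.Lib.GoldGroups.Ree
import Cfsg.Agent.Lib.BrauerSuzuki.Sylow

/-!
The simple normal subgroups of the groups in which abelian subgroups of equal order are conjugate.
-/

set_option autoImplicit false
set_option linter.style.haveILetI false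
set_option linter.unusedSectionVars false

namespace Cfsg.Agent.ConjAbelian

open Subgroup

universe u

/-- Any two abelian subgroups of equal order are conjugate. -/
def AbConj (G : Type u) [Group G] : Prop :=
  ∀ A B : Subgroup G, IsMulCommutative A → IsMulCommutative B → Nat.card A = Nat.card B →
    ∃ g : G, B = A.map (MulAut.conj g).toMonoidHom

variable {G : Type u} [Group G] [Finite G]

theorem AbConj.isCyclic (hB : AbConj G) {x : G} {V : Subgroup G} (hV : IsMulCommutative V)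
    (hc : Nat.card V = orderOf x) : IsCyclic V := by
  obtain ⟨g, rfl⟩ := hB (zpowers x) V inferInstance hV (by rw [Nat.card_zpowers, hc])
  exact (equivMapOfInjective (zpowers x) _ (MulAut.conj g).injective).isCyclic.1 inferInstance

/-- The commuting involutions are equal, or the 2-elements square to the identity. -/
theorem AbConj.rankOne_or_sqTwo (hB : AbConj G) : BrauerSuzuki.RankOne G ∨ EqualOrder.SqTwo G := by
  by_cases h : ∃ x : G, orderOf x = 4
  · obtain ⟨x, hx⟩ := h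
    refine Or.inl fun a b ha hb hab => ?_
    by_contra hne
    have two : ∀ {u : G}, orderOf u = 2 → u * u = 1 ∧ u ≠ 1 := fun {u} hu =>
      ⟨by rw [← pow_two, ← hu, pow_orderOf_eq_one], fun h => by rw [h, orderOf_one] at hu; omega⟩
    have h4 := EqualOrder.card_four (two ha).1 (two hb).1 (two ha).2 (two hb).2 hne hab.eq
    have hle : zpowers a ⊔ zpowers b ≤ Subgroup.closure ({a, b} : Set G) :=
      sup_le (zpowers_le.2 (subset_closure (by simp))) (zpowers_le.2 (subset_closure (by simp)))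
    have hcm : IsMulCommutative (Subgroup.closure ({a, b} : Set G)) := Subgroup.isMulCommutative_closure (by
      intro p hp q hq
      simp only [Set.mem_insert_iff, Set.mem_singleton_iff] at hp hq
      rcases hp with rfl | rfl <;> rcases hq with rfl | rfl <;> first | rfl | exact hab.eq | exact hab.eq.symm)
    have hV : IsMulCommutative ↥(zpowers a ⊔ zpowers b) := ⟨⟨fun u v => Subtype.ext
      (congrArg Subtype.val (hcm.is_comm.comm ⟨u, hle u.2⟩ ⟨v, hle v.2⟩) :)⟩⟩
    have hcyc := hB.isCyclic hV (h4.trans hx.symm)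
    rcases EqualOrder.eq_one_or_self ha (AllAbelian.mem_zpowers_of_cyclic Nat.prime_two hcyc
      (le_sup_left (b := zpowers b) (mem_zpowers a)) ha (le_sup_right (a := zpowers a) (mem_zpowers b))
      (hb ▸ pow_orderOf_eq_one b)) with e | e
    · exact (two hb).2 e
    · exact hne e.symm
  · refine Or.inr fun g ⟨k, hk⟩ => ?_
    rcases k with _ | _ | k
    · rw [orderOf_eq_one_iff.1 hk, one_mul]
    · have h2 : orderOf g = 2 := by simpa using hk
      rw [← pow_two, ← h2, pow_orderOf_eq_one]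
    · exact absurd ⟨_, orderOf_pow_orderOf_div (orderOf_pos g).ne'
        (hk ▸ (show (4 : ℕ) ∣ 2 ^ (k + 2) from ⟨2 ^ k, by ring⟩))⟩ h

theorem two_dvd_card {M : Type u} [Group M] [Finite M] [IsSimpleGroup M] (hna : ¬ IsMulCommutative M) :
    2 ∣ Nat.card M := by
  rw [← even_iff_two_dvd, ← Nat.not_odd_iff_even]
  intro h
  haveI : Group.IsSolvable M := S0205.result h
  exact hna ⟨⟨fun a b => IsSimpleGroup.comm_iff_isSolvable.2 inferInstance a b⟩⟩

/-- Brauer–Suzuki: a simple group has commuting involutions. -/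
theorem false_of_rankOne {M : Type u} [Group M] [Finite M] [IsSimpleGroup M] (hna : ¬ IsMulCommutative M)
    (hR : BrauerSuzuki.RankOne M) : False := by
  haveI : Fact (Nat.Prime 2) := ⟨Nat.prime_two⟩
  obtain ⟨P⟩ : Nonempty (Sylow 2 M) := inferInstance
  have h2 := two_dvd_card hna
  rcases BrauerSuzuki.exists_data hR P with hc | ⟨D, -⟩
  · have hmin : (Nat.card M).minFac = 2 := (Nat.minFac_eq_two_iff _).2 h2
    exact AllAbelian.not_normalizer_le_centralizer hna P h2 (IsCyclic.normalizer_le_centralizer hmin hc)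
  · have h := BrauerSuzuki.card_center hR D fun N hN hodd => hN.eq_bot_or_eq_top.resolve_right fun e => by
      subst e
      rw [Subgroup.card_top] at hodd
      exact hodd.not_two_dvd_nat h2
    rcases (inferInstance : (center M).Normal).eq_bot_or_eq_top with e | e
    · rw [e, Subgroup.card_bot] at h
      omega
    · exact hna ⟨⟨fun a b => mem_center_iff.1 (e ▸ mem_top b) a⟩⟩

/-- Every involution lies in a normal subgroup with an involution. -/
theorem AbConj.invol_mem (hB : AbConj G) (M : Subgroup G) [hM : M.Normal] {i : M} (hi : orderOf i = 2) {t : G}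
    (ht : orderOf t = 2) : t ∈ M := by
  obtain ⟨g, hg⟩ := hB (zpowers (i : G)) (zpowers t) inferInstance inferInstance
    (by rw [Nat.card_zpowers, Nat.card_zpowers, Subgroup.orderOf_coe, hi, ht])
  obtain ⟨y, hy, hyt⟩ := Subgroup.mem_map.1 (hg ▸ mem_zpowers t)
  rw [← hyt]
  exact hM.conj_mem y (zpowers_le.2 i.2 hy) g

/-- `PSL₂(2ⁿ)` is a normal subgroup only for `n = 2, 3, 5`. -/
theorem AbConj.two_exp (hB : AbConj G) (hsq : EqualOrder.SqTwo G) (M : Subgroup G) [M.Normal]
    {F : Type} [Field F] [Fintype F] {n : ℕ} (hn : 2 ≤ n) (hF : Fintype.card F = 2 ^ n)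
    (e : M ≃* Matrix.ProjectiveSpecialLinearGroup (Fin 2) F) : n = 2 ∨ n = 3 ∨ n = 5 := by
  haveI : Fact (Nat.Prime 2) := ⟨Nat.prime_two⟩
  have hev : Even (2 ^ n) := Nat.even_pow.2 ⟨even_two, by omega⟩
  have h4 : 4 ≤ 2 ^ n := (show 4 = 2 ^ 2 from rfl) ▸ Nat.pow_le_pow_right two_pos hn
  have hcM : Nat.card M = 2 ^ n * ((2 ^ n) ^ 2 - 1) := by
    have hg := Dickson.gcd_mul_card_psl (K := F)
    rw [Nat.card_eq_fintype_card (α := F), hF] at hg
    rw [show Nat.gcd 2 (2 ^ n - 1) = 1 from Nat.coprime_two_left.2 (by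
      rw [Nat.odd_iff]; rw [Nat.even_iff] at hev; omega), one_mul] at hg
    rw [Nat.card_congr e.toEquiv, hg]
  obtain ⟨i, hi⟩ := exists_prime_orderOf_dvd_card' (G := M) 2 (by
    rw [hcM]; exact Dvd.dvd.mul_right (dvd_pow_self 2 (by omega)) _)
  obtain ⟨S⟩ : Nonempty (Sylow 2 G) := inferInstance
  have hs := EqualOrder.sylow_sq hsq S
  have hSM : (S : Subgroup G) ≤ M := fun s hsS => by
    rcases eq_or_ne s 1 with rfl | h1
    · exact one_mem _
    · exact hB.invol_mem M hi (orderOf_eq_prime (by rw [pow_two]; exact hs s hsS) h1)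
  have hcard : Nat.card (S : Subgroup G) = 2 ^ n := by
    have h := (S.subtype hSM).card_eq_multiplicity
    rw [Sylow.coe_subtype, Nat.card_congr (subgroupOfEquivOfLe hSM).toEquiv] at h
    have hfac : (Nat.card M).factorization 2 = n := by
      rw [hcM, Nat.factorization_mul (by omega) (by
          have : 4 * 4 ≤ (2 ^ n) ^ 2 := by rw [pow_two]; exact Nat.mul_le_mul h4 h4
          omega),
        Finsupp.add_apply, Nat.prime_two.factorization_pow, Finsupp.single_eq_same,
        Nat.factorization_eq_zero_of_not_dvd (by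
          have hsq2 : Even ((2 ^ n) ^ 2) := Nat.even_pow.2 ⟨hev, by omega⟩
          rw [Nat.even_iff] at hsq2
          have : 0 < (2 ^ n) ^ 2 := by positivity
          omega), add_zero]
    rw [h, hfac]
  let K := GaloisField 2 n
  haveI : Fintype K := Fintype.ofFinite K
  have hcm := EqualOrder.comm_of_sq hs
  have hcle : ∀ A : Subgroup G, A ≤ S → IsMulCommutative A := fun A hA =>
    ⟨⟨fun a b => Subtype.ext (hcm a (hA a.2) b (hA b.2))⟩⟩
  obtain ⟨-, h⟩ := EqualOrder.dvd_card_automiser_of hsq S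
    (fun A B hA hB' h => hB A B (hcle A hA) (hcle B hB') h) hn hcard K
    (by rw [← Nat.card_eq_fintype_card, GaloisField.card 2 n (by omega)])
  rcases h with ⟨h, -⟩ | ⟨h, -⟩ | ⟨h, -⟩ <;> omega

/-- `SL₂` is `PSL₂` in characteristic two. -/
theorem sl_equiv_psl {F : Type} [Field F] [Fintype F] {n : ℕ} (hF : Fintype.card F = 2 ^ n) :
    Nonempty (Matrix.SpecialLinearGroup (Fin 2) F ≃* Matrix.ProjectiveSpecialLinearGroup (Fin 2) F) := by
  obtain ⟨p, hp⟩ := CharP.exists F
  obtain ⟨m, hpp, hm⟩ := FiniteField.card F p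
  obtain rfl : p = 2 := (Nat.prime_dvd_prime_iff_eq hpp Nat.prime_two).1
    (hpp.dvd_of_dvd_pow (hF ▸ hm ▸ dvd_pow_self p m.ne_zero))
  haveI := hp
  refine ⟨MulEquiv.ofBijective (QuotientGroup.mk' _) ⟨(MonoidHom.ker_eq_bot_iff _).1 ?_,
    QuotientGroup.mk'_surjective _⟩⟩
  rw [QuotientGroup.ker_mk', eq_bot_iff]
  intro s hs
  obtain ⟨r, hr, hrs⟩ := Matrix.SpecialLinearGroup.mem_center_iff.1 hs
  have hr1 : r = 1 := by
    have h : (r - 1) * (r - 1) = 0 := by
      have hr' : r * r = 1 := by simpa [pow_two] using hr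
      linear_combination hr' + (-r + 1) * (CharTwo.two_eq_zero (R := F))
    exact sub_eq_zero.1 (mul_self_eq_zero.1 h)
  rw [mem_bot]
  refine Subtype.ext ?_
  rw [← hrs, hr1]
  ext i j
  fin_cases i <;> fin_cases j <;> simp

/-- A group of Ree order does not occur: it has a real and a non-real class of elements of order three. -/
theorem AbConj.ree_false (hB : AbConj G) (M : Subgroup G) [hM : M.Normal] [IsSimpleGroup M]
    (hab : ∀ P : Sylow 2 M, ∀ a b : P, a * b = b * a) {t : M} (ht : orderOf t = 2)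
    {F : Type} [Field F] [Fintype F]
    (e : centralizer ({t} : Set M) ≃* Multiplicative (ZMod 2) × Matrix.ProjectiveSpecialLinearGroup (Fin 2) F)
    {m : ℕ} (hm : 1 ≤ m) (hF : Fintype.card F = 3 ^ (2 * m + 1))
    (hcard : Nat.card M = (3 ^ (2 * m + 1)) ^ 3 * ((3 ^ (2 * m + 1)) ^ 3 + 1) * (3 ^ (2 * m + 1) - 1)) :
    False := by
  classical
  haveI : Fact (Nat.Prime 2) := ⟨Nat.prime_two⟩
  haveI : Fact (Nat.Prime 3) := ⟨Nat.prime_three⟩
  obtain ⟨r, hr⟩ : ∃ r, r = 2 * m + 1 := ⟨_, rfl⟩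
  rw [← hr] at hF hcard
  have h8 : Fintype.card F % 8 = 3 := by
    rw [hF, hr, pow_succ, pow_mul, Nat.mul_mod, Nat.pow_mod]
    norm_num
  have h27 : 27 ≤ Fintype.card F := by
    rw [hF, show (27 : ℕ) = 3 ^ 3 by norm_num]
    exact Nat.pow_le_pow_right (by norm_num) (by omega)
  obtain ⟨D⟩ : Nonempty (JanThom.LData (Matrix.ProjectiveSpecialLinearGroup (Fin 2) F) (Fintype.card F : ℤ)) := by
    obtain ⟨D⟩ := JanThom.exists_lData (F := F) (Or.inl h8) (by omega)
    rw [if_pos h8] at D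
    exact ⟨D⟩
  have hQ : ((Fintype.card F : ℕ) : ℤ).natAbs = Fintype.card F := Int.natAbs_natCast _
  have hp : D.p = 3 := by
    have e : 3 ^ r = D.p ^ D.n := by rw [← D.abs_Q, hQ, hF]
    have hd : 3 ∣ D.p ^ D.n := e ▸ dvd_pow_self 3 (by omega)
    exact ((Nat.prime_dvd_prime_iff_eq Nat.prime_three D.prime_p).1 (Nat.prime_three.dvd_of_dvd_pow hd)).symm
  -- the centraliser of the involution
  set C := centralizer ({t} : Set M) with hC
  set φ : Multiplicative (ZMod 2) × Matrix.ProjectiveSpecialLinearGroup (Fin 2) F →* M :=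
    C.subtype.comp e.symm.toMonoidHom with hφ
  have hφi : Function.Injective φ := C.subtype_injective.comp e.symm.injective
  set j := φ.comp (MonoidHom.inr (Multiplicative (ZMod 2)) (Matrix.ProjectiveSpecialLinearGroup (Fin 2) F))
  have hji : Function.Injective j := fun a b h => congrArg Prod.snd (hφi h)
  have hCm : ∀ g : M, g * t = t * g → ∃ a l, φ (a, l) = g := fun g hg =>
    ⟨(e ⟨g, mem_centralizer_singleton_iff.2 hg⟩).1, (e ⟨g, mem_centralizer_singleton_iff.2 hg⟩).2, by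
      simp [hφ]⟩
  have htC : t ∈ C := mem_centralizer_singleton_iff.2 rfl
  have htne : t ≠ 1 := fun h => by rw [h, orderOf_one] at ht; omega
  have ht2 : t * t = 1 := by rw [← pow_two, ← ht, pow_orderOf_eq_one]
  have hjt : ∀ l, j l * t = t * j l := fun l => mem_centralizer_singleton_iff.1 (e.symm (1, l)).2
  have hφt : φ (Multiplicative.ofAdd 1, 1) = t := by
    have h2 : (e ⟨t, htC⟩).2 = 1 := by
      have hc : (e ⟨t, htC⟩).2 ∈ center (Matrix.ProjectiveSpecialLinearGroup (Fin 2) F) := by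
        refine mem_center_iff.2 fun g => ?_
        have h1 : e.symm (1, g) * ⟨t, htC⟩ = ⟨t, htC⟩ * e.symm (1, g) := Subtype.ext (hjt g)
        have h3 := congrArg e h1
        rw [map_mul, map_mul, e.apply_symm_apply] at h3
        exact congrArg Prod.snd h3
      rwa [TwoXDih.psl_center (by omega), mem_bot] at hc
    have h1 : (e ⟨t, htC⟩).1 = Multiplicative.ofAdd 1 := (TwoXDih.z2_cases _).resolve_left fun h1 => htne
      (congrArg Subtype.val (show (⟨t, htC⟩ : C) = 1 from e.injective ((Prod.ext h1 h2).trans (map_one e).symm)))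
    rw [← h1, ← h2]
    simp [hφ]
  -- the elements of order three
  set V := D.U.map j with hV
  have hUc : Nat.card D.U = 3 ^ r := by rw [D.card_U, hQ, hF]
  obtain ⟨z₀, hz₀U, hz₀⟩ : ∃ z ∈ D.U, z ≠ 1 := D.U.bot_or_exists_ne_one.resolve_left fun hb => by
    rw [hb, Subgroup.card_bot] at hUc
    have : 1 < 3 ^ r := Nat.one_lt_pow (by omega) (by norm_num)
    omega
  set E : M := j z₀ with hE
  have hE3 : orderOf E = 3 := orderOf_eq_prime
    (by rw [hE, ← map_pow, ← hp, D.U_exp _ hz₀U, map_one]) fun h => hz₀ (hji (h.trans (map_one j).symm))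
  have hexp : ∀ g : G, (∃ k, orderOf g = 3 ^ k) → g ^ 3 = 1 := by
    rintro g ⟨k, hk⟩
    rcases k with _ | _ | k
    · rw [orderOf_eq_one_iff.1 hk, one_pow]
    · rw [← show orderOf g = 3 by simpa using hk, pow_orderOf_eq_one]
    exfalso
    obtain ⟨B₀, hB₀⟩ := Sylow.exists_subgroup_card_pow_prime (G := D.U) 3 (n := 2)
      (hUc ▸ pow_dvd_pow 3 (by omega))
    set B := B₀.map ((M.subtype.comp j).comp D.U.subtype) with hBdef
    have hinj : Function.Injective ((M.subtype.comp j).comp D.U.subtype) :=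
      (M.subtype_injective.comp hji).comp D.U.subtype_injective
    have hB9 : Nat.card B = 3 ^ 2 := by rw [hBdef, card_map_of_injective hinj, hB₀]
    have hBc : IsMulCommutative B := .of_setLike_mul_comm (by
      rintro _ ⟨a, -, rfl⟩ _ ⟨b, -, rfl⟩
      rw [← map_mul, ← map_mul, show a * b = b * a from Subtype.ext (D.U_comm _ a.2 _ b.2)])
    haveI := hB.isCyclic hBc (hB9.trans (orderOf_pow_orderOf_div (orderOf_pos g).ne'
      (hk ▸ pow_dvd_pow 3 (by omega : 2 ≤ k + 2))).symm)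
    obtain ⟨⟨w, hwB⟩, hw⟩ := IsCyclic.exists_ofOrder_eq_natCard (α := B)
    rw [Subgroup.orderOf_mk, hB9] at hw
    obtain ⟨u, -, rfl⟩ := hwB
    have h3 : orderOf ((M.subtype.comp j).comp D.U.subtype u) ∣ 3 :=
      orderOf_dvd_of_pow_eq_one (by
        rw [← map_pow, show u ^ 3 = 1 from Subtype.ext (hp ▸ D.U_exp _ u.2), map_one])
    rw [hw] at h3
    exact absurd (Nat.le_of_dvd (by norm_num) h3) (by norm_num)
  have hexpM : ∀ x : M, (∃ k, orderOf x = 3 ^ k) → x ^ 3 = 1 := fun x ⟨k, hk⟩ =>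
    Subtype.ext (hexp (x : G) ⟨k, by rw [Subgroup.orderOf_coe, hk]⟩)
  -- the centraliser of `E`
  set K := centralizer ({E} : Set M) with hK
  have htK : t ∈ K := mem_centralizer_singleton_iff.2 (hjt z₀).symm
  have hcent : ∀ a l, φ (a, l) ∈ K → l ∈ D.U := by
    intro a l hg
    have e' : φ (a, l) * φ (1, z₀) = φ (1, z₀) * φ (a, l) := mem_centralizer_singleton_iff.1 hg
    rw [← map_mul, ← map_mul] at e'
    exact D.cent_u z₀ hz₀U hz₀ l (congrArg Prod.snd (hφi e'))
  obtain ⟨P, hP⟩ := (IsPGroup.of_card (n := 1) (G := zpowers (⟨t, htK⟩ : K)) (by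
    rw [Nat.card_zpowers, Subgroup.orderOf_mk, ht, pow_one])).exists_le_sylow
  have hPmem : ∀ x ∈ (P : Subgroup K), x = 1 ∨ x = ⟨t, htK⟩ := by
    intro x hx
    obtain ⟨R, hR⟩ := (P.2.map K.subtype).exists_le_sylow
    have ec : (x : M) * t = t * x := congrArg Subtype.val
      (hab R ⟨x, hR ⟨x, hx, rfl⟩⟩ ⟨t, hR ⟨⟨t, htK⟩, hP (mem_zpowers _), rfl⟩⟩)
    obtain ⟨a, l, hal⟩ := hCm x ec
    obtain ⟨i, hi⟩ := P.2 ⟨x, hx⟩
    have hi' : (x : M) ^ 2 ^ i = 1 := congrArg (fun y : P => ((y : K) : M)) hi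
    rw [← hal, ← map_pow, ← map_one φ] at hi'
    have hl : l = 1 := GoldGroups.eq_one_of_two_three (congrArg Prod.snd (hφi hi')) (j := 1) (by
      rw [pow_one, ← hp]; exact D.U_exp l (hcent a l (hal ▸ x.2)))
    subst hl
    rcases TwoXDih.z2_cases a with rfl | rfl
    · exact Or.inl (Subtype.ext (hal.symm.trans (map_one φ)))
    · exact Or.inr (Subtype.ext (hal.symm.trans hφt))
  -- `E` is not real
  have hNodd : ∀ l ∈ normalizer (D.U : Set (Matrix.ProjectiveSpecialLinearGroup (Fin 2) F)),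
      Odd (orderOf l) := by
    intro l hl
    refine Odd.of_dvd_nat ?_ (Subgroup.orderOf_dvd_natCard _ hl)
    have h := D.card_NU
    generalize Nat.card (normalizer (D.U : Set (Matrix.ProjectiveSpecialLinearGroup (Fin 2) F))) = N at h ⊢
    rw [hQ] at h
    obtain ⟨k, hk⟩ : ∃ k, Fintype.card F = 4 * k + 3 := ⟨Fintype.card F / 4, by omega⟩
    rw [hk, show 4 * k + 3 - 1 = 2 * (2 * k + 1) by omega, mul_left_comm] at h
    rw [Nat.eq_of_mul_eq_mul_left two_pos h]
    exact ⟨4 * k * k + 5 * k + 1, by ring⟩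
  have hnreal : ∀ g : M, g * E * g⁻¹ ≠ E⁻¹ := by
    intro g hg
    have hgE : E * g⁻¹ = g⁻¹ * E⁻¹ := by rw [← hg]; group
    have hgt : g * t * g⁻¹ ∈ K := by
      refine mem_centralizer_singleton_iff.2 ?_
      have hcomm : Commute (g * t * g⁻¹) E⁻¹ := by
        have h := (show Commute t E from (hjt z₀).symm).map (MulAut.conj g).toMonoidHom
        simp only [MulEquiv.coe_toMonoidHom, MulAut.conj_apply, hg] at h
        exact h
      simpa using hcomm.inv_right.eq
    obtain ⟨R, hR⟩ := (IsPGroup.of_card (p := 2) (n := 1) (G := zpowers (⟨g * t * g⁻¹, hgt⟩ : K)) (by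
      rw [Nat.card_zpowers, Subgroup.orderOf_mk, pow_one]
      exact (MulEquiv.orderOf_eq (MulAut.conj g) t).trans ht)).exists_le_sylow
    obtain ⟨c, hc⟩ := MulAction.exists_smul_eq K R P
    have hmem : c * ⟨g * t * g⁻¹, hgt⟩ * c⁻¹ ∈ (P : Subgroup K) := by
      rw [← hc, Sylow.coe_subgroup_smul, mem_pointwise_smul_iff_inv_smul_mem]
      simpa [MulAut.smul_def, mul_assoc] using hR (mem_zpowers _)
    rcases hPmem _ hmem with h | h
    · exact htne (conj_eq_one_iff.1 (congrArg Subtype.val (conj_eq_one_iff.1 h) : g * t * g⁻¹ = 1))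
    have e' : (c : M) * (g * t * g⁻¹) * (c : M)⁻¹ = t := congrArg Subtype.val h
    have hxt : (c : M) * g * t = t * ((c : M) * g) := by
      refine mul_inv_eq_iff_eq_mul.1 (Eq.trans ?_ e')
      group
    obtain ⟨a, l, hal⟩ := hCm _ hxt
    have hinv : (c : M) * g * E * ((c : M) * g)⁻¹ = E⁻¹ := by
      rw [show (c : M) * g * E * ((c : M) * g)⁻¹ = (c : M) * (g * E * g⁻¹) * (c : M)⁻¹ by group, hg,
        ((show Commute (c : M) E from mem_centralizer_singleton_iff.1 c.2).inv_right).eq, mul_inv_cancel_right]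
    rw [← hal, hE, show j z₀ = φ (1, z₀) from rfl, ← map_inv, ← map_inv, ← map_mul, ← map_mul] at hinv
    have hl : l * z₀ * l⁻¹ = z₀⁻¹ := congrArg Prod.snd (hφi hinv)
    have hlN := D.ti_u z₀ hz₀U hz₀ l (hl ▸ inv_mem hz₀U)
    have hlc : l ∈ centralizer ({z₀} : Set (Matrix.ProjectiveSpecialLinearGroup (Fin 2) F)) := by
      refine ClosedAbelian.mem_of_sq_mem (mem_centralizer_singleton_iff.2 ?_) (hNodd l hlN)
      rw [← mul_inv_eq_iff_eq_mul, show l * l * z₀ * (l * l)⁻¹ = l * (l * z₀ * l⁻¹) * l⁻¹ by group, hl,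
        ← conj_inv, hl, inv_inv]
    rw [mem_centralizer_singleton_iff.1 hlc, mul_inv_cancel_right] at hl
    exact hz₀ (GoldGroups.eq_one_of_two_three (i := 1) (j := 1)
      (by rw [pow_one, pow_two]; exact eq_inv_iff_mul_eq_one.1 hl)
      (by rw [pow_one, ← hp]; exact D.U_exp _ hz₀U))
  -- the elements of order three are conjugate in `G`
  have hclass : ∀ w : M, orderOf w = 3 → ∃ c : G, c * (w : G) * c⁻¹ = E ∨ c * (w : G) * c⁻¹ = (E : G)⁻¹ := by
    intro w hw
    obtain ⟨c, hc⟩ := hB (zpowers (w : G)) (zpowers (E : G)) inferInstance inferInstance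
      (by rw [Nat.card_zpowers, Nat.card_zpowers, Subgroup.orderOf_coe, Subgroup.orderOf_coe, hw, hE3])
    refine ⟨c, ?_⟩
    rw [MonoidHom.map_zpowers] at hc
    have hmem : c * (w : G) * c⁻¹ ∈ zpowers (E : G) := hc ▸ mem_zpowers _
    obtain ⟨i, hi⟩ := mem_zpowers_iff.1 hmem
    have hEG : orderOf (E : G) = 3 := by rw [Subgroup.orderOf_coe, hE3]
    rw [← zpow_mod_orderOf, hEG] at hi
    have h1 : (c * (w : G) * c⁻¹) ≠ 1 := fun h => by
      rw [conj_eq_one_iff.1 h |> fun h => (Subtype.ext h : w = 1), orderOf_one] at hw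
      omega
    obtain h | h | h : i % (3 : ℕ) = 0 ∨ i % (3 : ℕ) = 1 ∨ i % (3 : ℕ) = 2 := by omega
    · rw [h, zpow_zero] at hi; exact absurd hi.symm h1
    · rw [h, zpow_one] at hi; exact Or.inl hi.symm
    · rw [h] at hi
      refine Or.inr (hi.symm.trans ?_)
      refine eq_inv_of_mul_eq_one_left ?_
      have : (E : G) ^ (3 : ℕ) = 1 := hEG ▸ pow_orderOf_eq_one _
      rwa [show (2 : ℤ) = ((2 : ℕ) : ℤ) from rfl, zpow_natCast, ← pow_succ]
  have hnrealM : ∀ w s : M, orderOf w = 3 → s * w * s⁻¹ ≠ w⁻¹ := by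
    intro w s hw hs
    obtain ⟨c, hc⟩ := hclass w hw
    refine hnreal ⟨c * s * c⁻¹, hM.conj_mem s s.2 c⟩ (Subtype.ext ?_)
    have hs' : (s : G) * w * (s : G)⁻¹ = (w : G)⁻¹ := congrArg Subtype.val hs
    show c * (s : G) * c⁻¹ * E * (c * (s : G) * c⁻¹)⁻¹ = (E : G)⁻¹
    rcases hc with hc | hc
    · rw [← hc, show c * (s : G) * c⁻¹ * (c * w * c⁻¹) * (c * (s : G) * c⁻¹)⁻¹ =
        c * ((s : G) * w * (s : G)⁻¹) * c⁻¹ by group, hs', conj_inv]
    · rw [show (E : G) = (c * (w : G) * c⁻¹)⁻¹ by rw [hc, inv_inv], inv_inv,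
        show c * (s : G) * c⁻¹ * (c * w * c⁻¹)⁻¹ * (c * (s : G) * c⁻¹)⁻¹ =
          c * ((s : G) * w * (s : G)⁻¹)⁻¹ * c⁻¹ by group, hs', inv_inv]
  -- the centraliser is large
  have hK3 : 3 ^ (3 * r) ∣ Nat.card K := by
    obtain ⟨Q⟩ : Nonempty (Sylow 3 M) := inferInstance
    have hQd : 3 ^ (3 * r) ∣ Nat.card (Q : Subgroup M) := by
      refine Q.pow_dvd_card_of_pow_dvd_card ?_
      rw [hcard, ← pow_mul, mul_comm r 3]
      exact Dvd.dvd.mul_right (dvd_mul_right _ _) _
    haveI : Nontrivial (Q : Subgroup M) := by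
      rw [← Finite.one_lt_card_iff_nontrivial]
      exact lt_of_lt_of_le (Nat.one_lt_pow (by omega) (by norm_num)) (Nat.le_of_dvd Nat.card_pos hQd)
    haveI := Q.2.center_nontrivial
    obtain ⟨⟨z, hz⟩, hz1⟩ := exists_ne (1 : center (Q : Subgroup M))
    have hz1' : (z : M) ≠ 1 := fun h => hz1 (Subtype.ext (Subtype.ext h))
    obtain ⟨k, hk⟩ := IsPGroup.iff_orderOf.1 Q.2 z
    have hzo : orderOf (z : M) = 3 :=
      orderOf_eq_prime (hexpM _ ⟨k, by rw [Subgroup.orderOf_coe, hk]⟩) hz1'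
    obtain ⟨c, hc⟩ := hclass z hzo
    let f : M →* M := (MulAut.conjNormal c : MulAut M).toMonoidHom
    refine hQd.trans ?_
    rw [← card_map_of_injective (f := f) (MulAut.conjNormal c).injective]
    refine card_dvd_of_le ?_
    rintro _ ⟨x, hx, rfl⟩
    refine mem_centralizer_singleton_iff.2 (Subtype.ext ?_)
    have hxz : Commute (x : G) ((z : M) : G) :=
      congrArg (fun y : (Q : Subgroup M) => ((y : M) : G)) ((mem_center_iff.1 hz ⟨x, hx⟩))
    have hcc : Commute (c * (x : G) * c⁻¹) (c * ((z : M) : G) * c⁻¹) := hxz.map (MulAut.conj c).toMonoidHom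
    show ((MulAut.conjNormal c x : M) : G) * E = E * ((MulAut.conjNormal c x : M) : G)
    rw [MulAut.conjNormal_apply]
    rcases hc with hc | hc <;> rw [hc] at hcc
    · exact hcc.eq
    · simpa using hcc.inv_right.eq
  -- an inverted element
  have hPn : normalizer ((P : Subgroup K) : Set K) ≤ centralizer ((P : Subgroup K) : Set K) := by
    intro g hg
    rw [mem_centralizer_iff]
    intro x hx
    rcases hPmem x hx with rfl | rfl
    · rw [one_mul, mul_one]
    · rcases hPmem _ ((mem_normalizer_iff.1 hg _).1 hx) with h | h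
      · exact absurd (congrArg Subtype.val (conj_eq_one_iff.1 h)) htne
      · rw [← mul_inv_eq_iff_eq_mul.1 h]
  set K₀ := (MonoidHom.transferSylow P hPn).ker with hK₀
  have hK₀c : ¬ 2 ∣ Nat.card K₀ := MonoidHom.not_dvd_card_ker_transferSylow P hPn
  have hcomp := (MonoidHom.ker_transferSylow_isComplement' P hPn).card_mul_card
  have hP2 : Nat.card (P : Subgroup K) = 2 := by
    have hz : (P : Subgroup K) = zpowers (⟨t, htK⟩ : K) := by
      refine le_antisymm (fun x hx => ?_) hP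
      rcases hPmem x hx with rfl | rfl
      exacts [one_mem _, mem_zpowers _]
    rw [hz, Nat.card_zpowers, Subgroup.orderOf_mk, ht]
  set K' := K₀.map K.subtype with hK'
  have hK'c : Nat.card K' = Nat.card K₀ := card_map_of_injective K.subtype_injective
  have hK'3 : 3 ^ (3 * r) ∣ Nat.card K' := by
    rw [hK'c]
    rw [← hcomp, hP2] at hK3
    exact (Nat.Coprime.pow_left _ (by norm_num)).dvd_of_dvd_mul_right hK3
  have htn' : zpowers t ≤ normalizer (K' : Set M) := by
    rw [zpowers_le]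
    exact le_normalizer_map _ ⟨⟨t, htK⟩, by rw [normalizer_eq_top]; exact mem_top _, rfl⟩
  have hcop : (Nat.card (zpowers t)).Coprime (Nat.card K') := by
    rw [Nat.card_zpowers, ht, hK'c]
    exact Nat.prime_two.coprime_iff_not_dvd.2 hK₀c
  obtain ⟨Q, hQn⟩ := Cfsg.Agent.CoprimeAct.exists_invariant_sylow htn' hcop (Or.inl inferInstance) 3
  set R₀ := (Q : Subgroup K').map K'.subtype with hR₀
  have hR₀3 : 3 ^ (3 * r) ∣ Nat.card R₀ := by
    rw [hR₀, card_map_of_injective K'.subtype_injective]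
    exact Q.pow_dvd_card_of_pow_dvd_card hK'3
  have hR₀K : R₀ ≤ K := (map_subtype_le _).trans (map_subtype_le _)
  have hR₀p : IsPGroup 3 R₀ := Q.2.map _
  have htn : t ∈ normalizer (R₀ : Set M) := hQn (mem_zpowers t)
  obtain ⟨x, hxR, hxne⟩ : ∃ x ∈ R₀, x * t ≠ t * x := by
    by_contra hall
    push Not at hall
    have hle : R₀ ≤ V := by
      intro x hx
      obtain ⟨a, l, rfl⟩ := hCm x (hall x hx)
      obtain ⟨i, hi⟩ := hR₀p ⟨_, hx⟩
      have e' : φ (a, l) ^ 3 ^ i = φ 1 := (congrArg Subtype.val hi).trans (map_one φ).symm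
      rw [← map_pow] at e'
      have ha : a = 1 := GoldGroups.eq_one_of_two_three (i := 1) (by rw [pow_one, pow_two, JanThom.z2_sq])
        (congrArg Prod.fst (hφi e'))
      subst ha
      exact ⟨l, hcent 1 l (hR₀K hx), rfl⟩
    have h1 := card_le_of_le hle
    rw [hV, card_map_of_injective hji, hUc] at h1
    have h2 := Nat.le_of_dvd Nat.card_pos hR₀3
    have h3 : 3 ^ r < 3 ^ (3 * r) := Nat.pow_lt_pow_right (by norm_num) (by omega)
    omega
  have hti : t⁻¹ = t := inv_eq_of_mul_eq_one_right ht2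
  set w := x⁻¹ * (t * x * t⁻¹) with hwdef
  have hwR : w ∈ R₀ := mul_mem (inv_mem hxR) ((mem_normalizer_iff.1 htn x).1 hxR)
  have hw1 : w ≠ 1 := fun h => hxne (mul_inv_eq_iff_eq_mul.1 (inv_mul_eq_one.1 h).symm).symm
  have hwinv : t * w * t⁻¹ = w⁻¹ := by
    rw [hwdef, hti]
    calc t * (x⁻¹ * (t * x * t)) * t = t * x⁻¹ * (t * x * (t * t)) := by simp only [mul_assoc]
      _ = t * x⁻¹ * t * x := by rw [ht2, mul_one]; simp only [mul_assoc]
      _ = (x⁻¹ * (t * x * t))⁻¹ := by simp only [mul_inv_rev, inv_inv, hti, mul_assoc]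
  obtain ⟨k, hk⟩ := (IsPGroup.iff_orderOf.1 hR₀p) ⟨w, hwR⟩
  rw [Subgroup.orderOf_mk] at hk
  exact hnrealM w t (orderOf_eq_prime (hexpM w ⟨k, hk⟩) hw1) hwinv

/-- The simple normal subgroups. -/
theorem cases_of (hNF : Walter8.NoFieldStmt.{u}) {G : Type u} [Group G] [Finite G] (hB : AbConj G)
    (M : Subgroup G) [M.Normal] (hs : IsSimpleGroup M) (hna : ¬ IsMulCommutative M) :
    (∃ (F : Type) (_ : Field F) (_ : Fintype F), (Fintype.card F = 2 ^ 2 ∨ Fintype.card F = 2 ^ 3 ∨
        Fintype.card F = 2 ^ 5) ∧ Nonempty (↥M ≃* Matrix.SpecialLinearGroup (Fin 2) F)) ∨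
    (∃ (F : Type) (_ : Field F) (_ : Fintype F), 5 ≤ Fintype.card F ∧
        (Fintype.card F % 8 = 3 ∨ Fintype.card F % 8 = 5) ∧
        Nonempty (↥M ≃* Matrix.ProjectiveSpecialLinearGroup (Fin 2) F)) ∨
    Cfsg.Spor.IsoJ1 ↥M := by
  haveI := hs
  haveI : Fact (Nat.Prime 2) := ⟨Nat.prime_two⟩
  rcases hB.rankOne_or_sqTwo with hR | hsq
  · exact (false_of_rankOne hna (hR.subgroup M)).elim
  have hab : ∀ P : Sylow 2 M, IsMulCommutative (P : Subgroup M) := by
    have hsqM : EqualOrder.SqTwo M := fun g ⟨k, hk⟩ =>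
      Subtype.ext (hsq (g : G) ⟨k, by rw [Subgroup.orderOf_coe, hk]⟩)
    exact fun P => ⟨⟨fun a b => Subtype.ext
      (EqualOrder.comm_of_sq (EqualOrder.sylow_sq hsqM P) a a.2 b b.2)⟩⟩
  rcases Walter4.good M hs hna hab with ⟨F, i1, i2, hF | ⟨n, hn, hF⟩, ⟨e⟩⟩ | ⟨-, S, hE, hL, -⟩
  · exact Or.inr (Or.inl ⟨F, i1, i2, hF.2, hF.1, ⟨e⟩⟩)
  · obtain ⟨e'⟩ := sl_equiv_psl hF
    refine Or.inl ⟨F, i1, i2, ?_, ⟨e.trans e'.symm⟩⟩
    rcases hB.two_exp hsq M hn hF e with rfl | rfl | rfl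
    · exact Or.inl hF
    · exact Or.inr (Or.inl hF)
    · exact Or.inr (Or.inr hF)
  obtain ⟨a, ha, ha1⟩ := hE.exists_out (T := {1}) (by rw [Set.ncard_singleton]; norm_num)
  have ha1 : a ≠ 1 := ha1
  obtain ⟨F, i1, i2, -, h3, ⟨e⟩⟩ := Walter8.rjShape_of hNF hna hE hL ha ha1
  rcases S0343.result (fun P => (hab P).is_comm.comm) h3.le a (hE.order_two ha ha1) ⟨e⟩ with
    ⟨m, hm, hF, hcard⟩ | ⟨-, hJ⟩
  · exact (hB.ree_false M (fun P => (hab P).is_comm.comm) (hE.order_two ha ha1) e hm hF hcard).elim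
  · exact Or.inr (Or.inr (GoldGroups.isoJ1_of_isJ1 hJ))

end Cfsg.Agent.ConjAbelian
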